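import Mathlib

/-!
# Engel's theorem for finitely generated Lie algebras over arbitrary commutative rings (helper84)

If `L` is a Lie algebra over a commutative ring `A`, finitely generated as an `A`-module, and
`ad x` is nilpotent for every `x`, then `L` is nilpotent.  (Reduction to Mathlib's Engel theorem
for Noetherian Lie algebras over a finitely generated subring containing structure constants.)
-/

set_option autoImplicit false

namespace Groth.Agent.Lib.Helper84.EngelRing

section Abstract

variable {A₀ A L : Type*} [CommRing A₀] [IsNoetherianRing A₀] [CommRing A]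
  [LieRing L] [LieAlgebra A L] [LieAlgebra A₀ L]

theorem isNilpotent_of_subalgebra (L₀ : LieSubalgebra A₀ L) (hfg : L₀.toSubmodule.FG)
    (hspan : Submodule.span A (L₀ : Set L) = ⊤)
    (hnil : ∀ x ∈ L₀, IsNilpotent (LieAlgebra.ad A L x)) : LieRing.IsNilpotent L := by
  haveI : IsNoetherian A₀ L₀ := isNoetherian_of_fg_of_noetherian L₀.toSubmodule hfg
  have h1 : LieModule.IsNilpotent L₀ L := by
    refine LieAlgebra.isEngelian_of_isNoetherian (R := A₀) (L := L₀) L (fun x => ?_)
    obtain ⟨n, hn⟩ := hnil x x.2
    refine ⟨n, ?_⟩
    have key : ∀ k (v : L), ((LieModule.toEnd A₀ L₀ L x) ^ k) v =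
        ((LieAlgebra.ad A L (x : L)) ^ k) v := by
      intro k
      induction k with
      | zero => intro v; simp
      | succ k ih =>
        intro v
        rw [pow_succ, pow_succ, Module.End.mul_apply, Module.End.mul_apply, ih]
        rfl
    apply LinearMap.ext
    intro v
    rw [key, hn]
    rfl
  obtain ⟨k, hk⟩ := (LieModule.isNilpotent_iff A₀ L₀ L).1 h1
  have claim : ∀ k, ∀ v ∈ LieModule.lowerCentralSeries A L L k,
      v ∈ Submodule.span A ((LieModule.lowerCentralSeries A₀ L₀ L k : LieSubmodule A₀ L₀ L) :
        Set L) := by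
    intro k
    induction k with
    | zero =>
      intro v _
      apply Submodule.subset_span
      rw [LieModule.lowerCentralSeries_zero]
      trivial
    | succ k ih =>
      have key : ∀ x ∈ Submodule.span A (L₀ : Set L),
          ∀ n ∈ Submodule.span A ((LieModule.lowerCentralSeries A₀ L₀ L k :
            LieSubmodule A₀ L₀ L) : Set L),
          ⁅x, n⁆ ∈ Submodule.span A ((LieModule.lowerCentralSeries A₀ L₀ L (k + 1) :
            LieSubmodule A₀ L₀ L) : Set L) := by
        intro x hx
        induction hx using Submodule.span_induction with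
        | mem x₀ hx₀ =>
          intro n hn
          induction hn using Submodule.span_induction with
          | mem n₀ hn₀ =>
            apply Submodule.subset_span
            rw [LieModule.lowerCentralSeries_succ]
            have : ⁅(⟨x₀, hx₀⟩ : L₀), n₀⁆ ∈
                ⁅(⊤ : LieIdeal A₀ L₀), LieModule.lowerCentralSeries A₀ L₀ L k⁆ :=
              LieSubmodule.lie_mem_lie (LieSubmodule.mem_top _) hn₀
            exact this
          | zero => rw [lie_zero]; exact Submodule.zero_mem _
          | add a b _ _ ha hb => rw [lie_add]; exact add_mem ha hb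
          | smul r a _ ha => rw [lie_smul]; exact Submodule.smul_mem _ _ ha
        | zero => intro n _; rw [zero_lie]; exact Submodule.zero_mem _
        | add a b _ _ ha hb => intro n hn; rw [add_lie]; exact add_mem (ha n hn) (hb n hn)
        | smul r a _ ha => intro n hn; rw [smul_lie]; exact Submodule.smul_mem _ _ (ha n hn)
      intro v hv
      rw [LieModule.lowerCentralSeries_succ] at hv
      have hv' : v ∈ (⁅(⊤ : LieIdeal A L), LieModule.lowerCentralSeries A L L k⁆ :
          LieSubmodule A L L).toSubmodule := hv
      rw [LieSubmodule.lieIdeal_oper_eq_linear_span'] at hv'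
      clear hv
      induction hv' using Submodule.span_induction with
      | mem w hw =>
        obtain ⟨x, _, n, hn, rfl⟩ := hw
        exact key x (by rw [hspan]; trivial) n (ih n hn)
      | zero => exact Submodule.zero_mem _
      | add a b _ _ ha hb => exact add_mem ha hb
      | smul r a _ ha => exact Submodule.smul_mem _ _ ha
  refine LieModule.IsNilpotent.mk (R := A) (L := L) L (k := k) ?_
  rw [eq_bot_iff]
  intro v hv
  have := claim k v hv
  rw [hk] at this
  rw [LieSubmodule.mem_bot]
  have h0 : ((⊥ : LieSubmodule A₀ L₀ L) : Set L) = {0} := LieSubmodule.bot_coe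
  rw [h0, Submodule.span_singleton_eq_bot.2 rfl] at this
  exact (Submodule.mem_bot A).1 this

end Abstract

section Concrete

variable {A L : Type*} [CommRing A] [LieRing L] [LieAlgebra A L] [Module.Finite A L]

/-- Engel's theorem for a Lie algebra finitely generated as a module over any commutative ring. -/
theorem isNilpotent_of_forall_isNilpotent_ad
    (hnil : ∀ x : L, IsNilpotent (LieAlgebra.ad A L x)) : LieRing.IsNilpotent L := by
  classical
  obtain ⟨n, s, hs⟩ := Module.Finite.exists_fin (R := A) (M := L)
  have hc : ∀ i j, ∃ c : Fin n → A, ⁅s i, s j⁆ = ∑ k, c k • s k := by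
    intro i j
    have : ⁅s i, s j⁆ ∈ Submodule.span A (Set.range s) := by rw [hs]; trivial
    obtain ⟨c, hc⟩ := (Submodule.mem_span_range_iff_exists_fun A).1 this
    exact ⟨c, hc.symm⟩
  choose c hc using hc
  let A₀ : Subalgebra ℤ A :=
    Algebra.adjoin ℤ (Set.range fun ijk : Fin n × Fin n × Fin n => c ijk.1 ijk.2.1 ijk.2.2)
  have hcA₀ : ∀ i j k, c i j k ∈ A₀ := fun i j k => Algebra.subset_adjoin ⟨(i, j, k), rfl⟩
  haveI : Algebra.FiniteType ℤ A₀ := by
    refine (Subalgebra.fg_iff_finiteType _).1 ?_
    have hfin : (Set.range fun ijk : Fin n × Fin n × Fin n => c ijk.1 ijk.2.1 ijk.2.2).Finite :=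
      Set.finite_range _
    have := Subalgebra.fg_adjoin_finset (R := ℤ) hfin.toFinset
    rwa [Set.Finite.coe_toFinset] at this
  haveI : IsNoetherianRing A₀ := Algebra.FiniteType.isNoetherianRing ℤ A₀
  letI : LieAlgebra A₀ L :=
    { lie_smul := fun r x y => lie_smul (r : A) x y }
  have hsmul : ∀ (r : A₀) (x : L), r • x = (r : A) • x := fun _ _ => rfl
  have hlie : ∀ x ∈ Submodule.span A₀ (Set.range s), ∀ y ∈ Submodule.span A₀ (Set.range s),
      ⁅x, y⁆ ∈ Submodule.span A₀ (Set.range s) := by
    intro x hx
    induction hx using Submodule.span_induction with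
    | mem x₀ hx₀ =>
      obtain ⟨i, rfl⟩ := hx₀
      intro y hy
      induction hy using Submodule.span_induction with
      | mem y₀ hy₀ =>
        obtain ⟨j, rfl⟩ := hy₀
        rw [hc i j]
        refine Submodule.sum_mem _ fun k _ => ?_
        have : c i j k • s k = (⟨c i j k, hcA₀ i j k⟩ : A₀) • s k := rfl
        rw [this]
        exact Submodule.smul_mem _ _ (Submodule.subset_span ⟨k, rfl⟩)
      | zero => rw [lie_zero]; exact Submodule.zero_mem _
      | add a b _ _ ha hb => rw [lie_add]; exact add_mem ha hb
      | smul r a _ ha => rw [lie_smul]; exact Submodule.smul_mem _ _ ha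
    | zero => intro y _; rw [zero_lie]; exact Submodule.zero_mem _
    | add a b _ _ ha hb => intro y hy; rw [add_lie]; exact add_mem (ha y hy) (hb y hy)
    | smul r a _ ha => intro y hy; rw [smul_lie]; exact Submodule.smul_mem _ _ (ha y hy)
  let L₀ : LieSubalgebra A₀ L :=
    { Submodule.span A₀ (Set.range s) with
      lie_mem' := fun {x y} hx hy => hlie x hx y hy }
  refine isNilpotent_of_subalgebra (A₀ := A₀) (A := A) L₀ ?_ ?_ (fun x _ => hnil x)
  · exact Submodule.fg_span (Set.finite_range s)
  · rw [eq_top_iff, ← hs]
    apply Submodule.span_mono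
    rintro _ ⟨i, rfl⟩
    exact Submodule.subset_span (s := Set.range s) ⟨i, rfl⟩

end Concrete

end Groth.Agent.Lib.Helper84.EngelRing
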