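import Mathlib

/-!
# An endomorphism of a finite module which is nilpotent on all fibres is nilpotent (helper84)
-/

set_option autoImplicit false

namespace Groth.Agent.Lib.Helper84.EngelRing

open TensorProduct Polynomial

variable {A : Type*} [CommRing A] {M : Type*} [AddCommGroup M] [Module A M]

/-- If `1 ⊗ m = 0` in `κ(p) ⊗ M` then `a • m ∈ p M` for some `a ∉ p`. -/
lemma exists_smul_mem_of_tmul_eq_zero (p : Ideal A) [p.IsPrime] (m : M)
    (h : (1 : p.ResidueField) ⊗ₜ[A] m = 0) : ∃ a ∉ p, a • m ∈ (p • ⊤ : Submodule A M) := by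
  have h1 : (1 : p.ResidueField) ⊗ₜ[A ⧸ p] ((1 : A ⧸ p) ⊗ₜ[A] m) = 0 := by
    apply (TensorProduct.AlgebraTensorModule.cancelBaseChange A (A ⧸ p) p.ResidueField
      p.ResidueField M).injective
    rw [TensorProduct.AlgebraTensorModule.cancelBaseChange_tmul, one_smul, h, map_zero]
  haveI : IsLocalizedModule (nonZeroDivisors (A ⧸ p))
      (TensorProduct.mk (A ⧸ p) p.ResidueField ((A ⧸ p) ⊗[A] M) 1) :=
    (isLocalizedModule_iff_isBaseChange (nonZeroDivisors (A ⧸ p)) p.ResidueField _).2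
      (TensorProduct.isBaseChange (A ⧸ p) ((A ⧸ p) ⊗[A] M) p.ResidueField)
  have h2 : (TensorProduct.mk (A ⧸ p) p.ResidueField ((A ⧸ p) ⊗[A] M) 1)
      ((1 : A ⧸ p) ⊗ₜ[A] m) = 0 := h1
  obtain ⟨s, hs⟩ := (IsLocalizedModule.eq_zero_iff (nonZeroDivisors (A ⧸ p))
    (TensorProduct.mk (A ⧸ p) p.ResidueField ((A ⧸ p) ⊗[A] M) 1)).1 h2
  obtain ⟨a, ha⟩ := Ideal.Quotient.mk_surjective (s : A ⧸ p)
  refine ⟨a, ?_, ?_⟩
  · intro hap
    have : (s : A ⧸ p) = 0 := by rw [← ha]; exact Ideal.Quotient.eq_zero_iff_mem.2 hap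
    exact nonZeroDivisors.coe_ne_zero s this
  · have h3 : (Ideal.Quotient.mk p a) ⊗ₜ[A] m = (0 : (A ⧸ p) ⊗[A] M) := by
      have : (s : A ⧸ p) • ((1 : A ⧸ p) ⊗ₜ[A] m) = 0 := hs
      rw [TensorProduct.smul_tmul', smul_eq_mul, mul_one, ← ha] at this
      exact this
    have h4 := congrArg (TensorProduct.quotTensorEquivQuotSMul M p) h3
    rw [TensorProduct.quotTensorEquivQuotSMul_mk_tmul, map_zero] at h4
    exact (Submodule.Quotient.mk_eq_zero _).1 h4

end Groth.Agent.Lib.Helper84.EngelRing
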