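import Groth.Agent.Lib.Helper84.EngelRing.NilpFibre

/-!
# An endomorphism of a finite module which is nilpotent on all fibres is nilpotent (helper84)
-/

set_option autoImplicit false

namespace Groth.Agent.Lib.Helper84.EngelRing

open TensorProduct Polynomial

variable {A : Type*} [CommRing A] {M : Type*} [AddCommGroup M] [Module A M]

lemma baseChange_pow_tmul (B : Type*) [CommRing B] [Algebra A B] (T : Module.End A M) (n : ℕ)
    (m : M) : ((T.baseChange B) ^ n) ((1 : B) ⊗ₜ[A] m) = (1 : B) ⊗ₜ[A] ((T ^ n) m) := by
  induction n generalizing m with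
  | zero => simp
  | succ n ih =>
    rw [pow_succ, Module.End.mul_apply, LinearMap.baseChange_tmul, ih, pow_succ,
      Module.End.mul_apply]

variable [Module.Finite A M]

/-- fibrewise nilpotent: a uniform local statement. -/
lemma exists_smul_pow_mem (T : Module.End A M) (p : Ideal A) [hp : p.IsPrime]
    (h : IsNilpotent (T.baseChange p.ResidueField)) :
    ∃ n : ℕ, ∃ a ∉ p, ∀ m : M, a • (T ^ n) m ∈ (p • ⊤ : Submodule A M) := by
  classical
  obtain ⟨n, hn⟩ := h
  have hpow : ∀ m : M, (1 : p.ResidueField) ⊗ₜ[A] ((T ^ n) m) = 0 := by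
    intro m
    rw [← baseChange_pow_tmul, hn]
    rfl
  obtain ⟨s, hs⟩ := (Module.Finite.fg_top : (⊤ : Submodule A M).FG)
  choose a ha using fun m => exists_smul_mem_of_tmul_eq_zero p ((T ^ n) m) (hpow m)
  refine ⟨n, ∏ x ∈ s, a x, ?_, ?_⟩
  · intro hmem
    obtain ⟨x, _, hx⟩ := (Ideal.IsPrime.prod_mem_iff).1 hmem
    exact (ha x).1 hx
  · intro m
    have hm : m ∈ Submodule.span A (s : Set M) := by rw [hs]; trivial
    induction hm using Submodule.span_induction with
    | mem x hx =>
      have hx' : x ∈ s := hx
      rw [← Finset.mul_prod_erase s a hx', mul_comm, mul_smul]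
      exact Submodule.smul_mem _ _ (ha x).2
    | zero => simp
    | add x y _ _ hx hy =>
      rw [map_add, smul_add]
      exact add_mem hx hy
    | smul r x _ hx =>
      rw [map_smul, smul_comm]
      exact Submodule.smul_mem _ _ hx

/-- An endomorphism of a finite module which is nilpotent on all fibres is nilpotent. -/
theorem isNilpotent_of_forall_baseChange (T : Module.End A M)
    (h : ∀ p : PrimeSpectrum A, IsNilpotent (T.baseChange p.asIdeal.ResidueField)) :
    IsNilpotent T := by
  have step2 : (X : A[X]) ∈ (Module.annihilator A[X] (Module.AEval' T)).radical := by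
    rw [Ideal.radical_eq_sInf, Ideal.mem_sInf]
    rintro Q ⟨hQann, hQ⟩
    haveI := hQ
    by_contra hX
    set p : Ideal A := Q.comap (C : A →+* A[X]) with hp
    haveI : p.IsPrime := Ideal.comap_isPrime _ _
    obtain ⟨n, a, hap, ham⟩ := exists_smul_pow_mem T p (h ⟨p, inferInstance⟩)
    set f : A[X] := C a * X ^ n with hf
    have hfQ : f ∉ Q := by
      intro hfm
      rcases hQ.mem_or_mem hfm with h1 | h1
      · exact hap h1
      · exact hX (hQ.mem_of_pow_mem n h1)
    let φ : Module.End A[X] (Module.AEval' T) := algebraMap A[X] _ f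
    have hφ : ∀ y, φ y = f • y := fun y => rfl
    have hrange : LinearMap.range φ ≤ Q • (⊤ : Submodule A[X] (Module.AEval' T)) := by
      rintro _ ⟨y, rfl⟩
      obtain ⟨m, rfl⟩ := (Module.AEval'.of T).surjective y
      have hC : ∀ (r : A) (y : M), (C r : A[X]) • Module.AEval'.of T y =
          Module.AEval'.of T (r • y) := by
        intro r y
        rw [map_smul, ← IsScalarTower.algebraMap_smul A[X] r, Polynomial.algebraMap_eq]
      have e : φ (Module.AEval'.of T m) = Module.AEval'.of T (a • (T ^ n) m) := by
        rw [hφ, hf, mul_smul, Module.AEval'.X_pow_smul_of, hC]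
        rfl
      rw [e]
      refine Submodule.smul_induction_on (ham m) ?_ ?_
      · intro r hr m' _
        rw [← hC]
        exact Submodule.smul_mem_smul hr trivial
      · intro x y hx hy
        rw [map_add]
        exact add_mem hx hy
    obtain ⟨P, hmonic, -, hcoeff, hP⟩ :=
      LinearMap.exists_monic_and_natDegree_eq_and_coeff_mem_pow_and_aeval_eq_zero A[X] φ Q hrange
    have hPf : P.eval f ∈ Module.annihilator A[X] (Module.AEval' T) := by
      rw [Module.mem_annihilator]
      intro y
      have h1 : Polynomial.aeval φ P = algebraMap A[X] _ (Polynomial.aeval f P) :=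
        Polynomial.aeval_algebraMap_apply _ f P
      rw [hP] at h1
      have h2 : (algebraMap A[X] (Module.End A[X] (Module.AEval' T)) (Polynomial.aeval f P)) y
          = 0 := by rw [← h1]; rfl
      rw [Polynomial.coe_aeval_eq_eval] at h2
      exact h2
    have hPQ : P.eval f ∈ Q := hQann hPf
    rw [Polynomial.eval_eq_sum_range, Finset.sum_range_succ, hmonic.coeff_natDegree, one_mul]
      at hPQ
    have hsum : ∑ k ∈ Finset.range P.natDegree, P.coeff k * f ^ k ∈ Q := by
      refine Ideal.sum_mem _ fun k hk => ?_
      refine Ideal.mul_mem_right _ _ ?_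
      have hk' : P.natDegree - k ≠ 0 := by
        have := Finset.mem_range.1 hk
        omega
      exact Ideal.pow_le_self hk' (hcoeff k)
    have hfd : f ^ P.natDegree ∈ Q := (Ideal.add_mem_iff_right _ hsum).1 hPQ
    exact hfQ (hQ.mem_of_pow_mem _ hfd)
  obtain ⟨m, hm⟩ := step2
  refine ⟨m, ?_⟩
  apply LinearMap.ext
  intro v
  have h1 := (Module.mem_annihilator.1 hm) (Module.AEval'.of T v)
  rw [Module.AEval'.X_pow_smul_of] at h1
  have h2 := (Module.AEval'.of T).injective (h1.trans (map_zero _).symm)
  exact h2

end Groth.Agent.Lib.Helper84.EngelRing
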